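import Cfsg.Agent.H215.J7.Iface
import Cfsg.Agent.Transfer.PGroupNormal

/-!
# S3068, T5: existence of `R` and `D` (helper352, task 3640)
-/

set_option autoImplicit false

namespace Cfsg.Agent.H352.J7

open Subgroup Cfsg Cfsg.Agent.H215.J7
open scoped commutatorElement

universe u

variable {G : Type u} [Group G] [Finite G] {p : ℕ} [Fact p.Prime]

theorem zz_normal {X : Type*} [Group X] (Q : Subgroup X) [Q.Normal] : (ZZ Q).Normal := by
  unfold ZZ
  infer_instance

theorem vv_normal {X : Type*} [Group X] (p : ℕ) (Q : Subgroup X) [Q.Normal] : (VV p Q).Normal := by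
  refine ⟨fun v hv g => ?_⟩
  rw [mem_VV] at hv ⊢
  refine ⟨(zz_normal Q).conj_mem v hv.1 g, ?_⟩
  rw [conj_pow, hv.2, mul_one, mul_inv_cancel]

/-- a nontrivial normal subgroup of `X` in a normal `p`-subgroup `Q` meets `Ω₁(Z(Q))` -/
theorem exists_vv {X : Type*} [Group X] [Finite X] {Q N : Subgroup X} (hQ : IsPGroup p Q) [N.Normal]
    (hN : N ≠ ⊥) (hNQ : N ≤ Q) : ∃ z ∈ N, z ∈ VV p Q ∧ z ≠ 1 := by
  have h0 : N.subgroupOf Q ≠ ⊥ := by
    rw [Ne, subgroupOf_eq_bot]
    intro h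
    exact hN (by rw [← inf_eq_left.2 hNQ]; exact h.eq_bot)
  obtain ⟨z, hz, hzc, ho⟩ := Cfsg.Agent.Transfer.PGroupNormal.exists_mem_inf_center_orderOf hQ (N.subgroupOf Q) h0
  refine ⟨z, mem_subgroupOf.1 hz, ?_, ?_⟩
  · rw [mem_VV]
    refine ⟨⟨z.2, mem_centralizer_iff.2 ?_⟩, ?_⟩
    · intro g hg
      exact congrArg Subtype.val (mem_center_iff.1 hzc ⟨g, hg⟩)
    · have h1 := pow_orderOf_eq_one z
      rw [ho] at h1
      exact congrArg Subtype.val h1
  · intro h
    have h1 : z = 1 := Subtype.ext h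
    rw [h1, orderOf_one] at ho
    exact (Fact.out : p.Prime).one_lt.ne ho

/-- chief factors in a `p`-group -/
theorem chief_le {Q R B : Subgroup G} [Q.Normal] [hR : R.Normal] (hQ : IsPGroup p Q) (hB : IsChiefFactor B R)
    (hBQ : B ≤ Q) : B.map (QuotientGroup.mk' R) ≤ VV p (Q.map (QuotientGroup.mk' R)) := by
  obtain ⟨h1, h2, -, h4⟩ := hB
  have : (B.map (QuotientGroup.mk' R)).Normal := h2.map _ (QuotientGroup.mk'_surjective R)
  have : (Q.map (QuotientGroup.mk' R)).Normal := ‹Q.Normal›.map _ (QuotientGroup.mk'_surjective R)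
  have hVn := vv_normal p (Q.map (QuotientGroup.mk' R))
  obtain ⟨z, hz, hzv, hz1⟩ := exists_vv (p := p) (Q := Q.map (QuotientGroup.mk' R)) (N := B.map (QuotientGroup.mk' R))
    (hQ.map _) (by
      intro h
      rw [Subgroup.map_eq_bot_iff, QuotientGroup.ker_mk'] at h
      exact absurd h1 (not_lt_of_ge h)) (map_mono hBQ)
  have h5 := h4 (B ⊓ (VV p (Q.map (QuotientGroup.mk' R))).comap (QuotientGroup.mk' R)) inferInstance
    (le_inf h1.le (by
      intro r hr
      rw [mem_comap, show QuotientGroup.mk' R r = 1 from (QuotientGroup.eq_one_iff r).2 hr]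
      exact one_mem _)) inf_le_left
  rcases h5 with h5 | h5
  · exfalso
    obtain ⟨b, hb, rfl⟩ := hz
    have h6 : b ∈ R := by
      rw [← h5]
      exact ⟨hb, hzv⟩
    exact hz1 ((QuotientGroup.eq_one_iff b).2 h6)
  · rw [map_le_iff_le_comap]
    exact inf_eq_left.1 h5

theorem t5_exists_RD (Q : Subgroup G) (hQ : Q.Normal) (hQp : IsPGroup p Q) : ∃ R D : Subgroup G, RD p Q R D := by
  obtain ⟨R, hRm⟩ := (Set.toFinite {R : Subgroup G | R.Normal ∧ R ≤ Q ∧ Ab R}).exists_maximal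
    ⟨⊥, inferInstance, bot_le, by
      intro a ha b hb
      rw [mem_bot] at ha hb
      rw [ha, hb]⟩
  obtain ⟨hRn, hRQ, hRa⟩ := hRm.prop
  have hmax : ∀ T : Subgroup G, T.Normal → T ≤ Q → Ab T → R ≤ T → T = R := fun T h1 h2 h3 h4 =>
    (hRm.eq_of_le ⟨h1, h2, h3⟩ h4).symm
  set 𝓑 : Set (Subgroup G) := {B | IsChiefFactor B R ∧ B ≤ Q ⊓ centralizer (R : Set G)} with h𝓑
  have hBn : (sSup 𝓑).Normal := sSup_normal 𝓑 fun B hB => hB.1.2.1
  set D : Subgroup G := R ⊔ sSup 𝓑 with hD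
  have hDn : D.Normal := inferInstance
  have hRC : R ≤ centralizer (R : Set G) := by
    intro x hx
    rw [mem_centralizer_iff]
    intro y hy
    exact hRa y hy x hx
  have hDQC : D ≤ Q ⊓ centralizer (R : Set G) := sup_le (le_inf hRQ hRC) (sSup_le fun B hB => hB.2)
  have hDR : ∀ x ∈ D, ∀ y ∈ R, x * y = y * x := by
    intro x hx y hy
    exact (mem_centralizer_iff.1 (hDQC hx).2 y hy).symm
  have hDV : D.map (QuotientGroup.mk' R) ≤ VV p (Q.map (QuotientGroup.mk' R)) := by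
    rw [map_le_iff_le_comap]
    refine sup_le ?_ (sSup_le ?_)
    · intro r hr
      rw [mem_comap, show QuotientGroup.mk' R r = 1 from (QuotientGroup.eq_one_iff r).2 hr]
      exact one_mem _
    · intro B hB
      rw [← map_le_iff_le_comap]
      exact chief_le hQp hB.1 (hB.2.trans inf_le_left)
  refine ⟨R, D, ⟨hRn, hDn, le_sup_left, hDQC.trans inf_le_left, hRa, ?_, hDR, ?_, ?_, ?_, ?_⟩⟩
  · have hZn := zz_normal Q
    have h1 : ZZ Q ⊔ R = R := by
      refine hmax _ inferInstance (sup_le inf_le_left hRQ) ?_ le_sup_right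
      intro a ha b hb
      have h2 : ∀ c ∈ ZZ Q ⊔ R, ∃ z ∈ ZZ Q, ∃ r ∈ R, z * r = c := fun c hc => mem_sup_of_normal_right.1 hc
      obtain ⟨z, hz, r, hr, rfl⟩ := h2 a ha
      obtain ⟨z', hz', r', hr', rfl⟩ := h2 b hb
      have k1 : ∀ q ∈ Q, Commute q z := fun q hq => mem_centralizer_iff.1 hz.2 q hq
      have k2 : ∀ q ∈ Q, Commute q z' := fun q hq => mem_centralizer_iff.1 hz'.2 q hq
      have k3 : Commute r r' := hRa r hr r' hr'
      exact (((k1 z' hz'.1).symm.mul_right (k1 r' (hRQ hr')).symm).mul_left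
        ((k2 r (hRQ hr)).mul_right k3)).eq
    rw [← h1]
    exact le_sup_left
  · rw [commutator_le]
    intro d hd q hq
    have h1 := (hDV (mem_map_of_mem _ hd)).1.2
    have h2 := mem_centralizer_iff.1 h1 (QuotientGroup.mk' R q) (mem_map_of_mem _ hq)
    rw [← QuotientGroup.eq_one_iff, ← QuotientGroup.mk'_apply, map_commutatorElement]
    rw [commutatorElement_eq_one_iff_mul_comm]
    exact h2.symm
  · intro x hx
    have h1 := (hDV (mem_map_of_mem _ hx)).2
    rw [← map_pow] at h1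
    exact (QuotientGroup.eq_one_iff _).1 h1
  · by_contra hC
    have hCn : (Q ⊓ centralizer (D : Set G)).Normal := inferInstance
    set C := Q ⊓ centralizer (D : Set G) with hCdef
    have hlt : R < C ⊔ R := lt_of_le_of_ne le_sup_right (fun h => hC (h ▸ le_sup_left))
    obtain ⟨B, hBm⟩ := (Set.toFinite {B : Subgroup G | B.Normal ∧ R < B ∧ B ≤ C ⊔ R}).exists_minimal
      ⟨C ⊔ R, inferInstance, hlt, le_rfl⟩
    obtain ⟨hBn', hRB, hBC⟩ := hBm.prop
    have hCR : C ≤ centralizer (R : Set G) := inf_le_right.trans (centralizer_le (SetLike.coe_subset_coe.2 le_sup_left))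
    have hch : IsChiefFactor B R := by
      refine ⟨hRB, hBn', hRn, fun N hN h1 h2 => ?_⟩
      rcases h1.lt_or_eq with h3 | h3
      · exact Or.inr (hBm.eq_of_le ⟨hN, h3, h2.trans hBC⟩ h2)
      · exact Or.inl h3.symm
    have hBD : B ≤ D := (le_sSup (show B ∈ 𝓑 from ⟨hch, hBC.trans (sup_le (le_inf inf_le_left hCR) (le_inf hRQ hRC))⟩)).trans
      le_sup_right
    have hBab : Ab B := by
      intro a ha b hb
      obtain ⟨c, hc, r, hr, rfl⟩ := mem_sup_of_normal_right.1 (hBC ha)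
      have k1 : Commute b c := mem_centralizer_iff.1 hc.2 b (hBD hb)
      have k2 : Commute b r := hDR b (hBD hb) r hr
      exact (k1.mul_right k2).symm.eq
    exact hRB.ne (hmax B hBn' (hBD.trans (hDQC.trans inf_le_left)) hBab hRB.le).symm
  · refine sup_le le_sup_left (sSup_le fun B hB => ?_)
    exact (le_sSup (show B ∈ {B : Subgroup G | IsChiefFactor B R ∧ B ≤ D} from
      ⟨hB.1, (le_sSup hB).trans le_sup_right⟩)).trans le_sup_right

end Cfsg.Agent.H352.J7
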